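import Groth.Agent.RootCover.QuotReg

/-! The uniformiser of the normalised root cover. -/

set_option autoImplicit false
set_option maxHeartbeats 1000000

universe u

open IsLocalRing

noncomputable section

namespace Groth.Agent.RootCover

namespace Data

variable {B K : Type u} [CommRing B] [CommRing K] [Algebra B K] (c : Data B K) [IsDomain B]

/-- The equation of the branch divisor is, up to a unit, a power of an element generating a radical
ideal. -/
theorem exists_uniformizer [IsNoetherianRing B] (hNu : IsUnit (c.N : B)) (hf : c.f ≠ 0)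
    (hD : ∀ (P : Ideal (B ⧸ Ideal.span ({c.f} : Set B))) [P.IsPrime], IsRegularLocalRing (Localization.AtPrime P)) :
    ∃ π : c.A, (∃ w : c.A, IsUnit w ∧ π ^ (c.N / Nat.gcd c.α c.N) = w * algebraMap B c.A c.f) ∧
      (Ideal.span {π}).IsRadical ∧
      ∃ (v : c.A) (d : ℕ), IsUnit v ∧ IsUnit (d : B) ∧ (∃ b, v ^ d = algebraMap B c.A b) ∧
        ∀ a : c.A, ∃ P : Polynomial B, π ∣ a - Polynomial.aeval v P := by
  haveI := c.finite
  haveI := c.free hf
  haveI : IsNoetherianRing c.A := IsNoetherianRing.of_finite B c.A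
  have hfs : IsSMulRegular B c.f := IsSMulRegular.of_ne_zero hf
  have hd : 0 < Nat.gcd c.α c.N := Nat.gcd_pos_of_pos_right _ c.hN
  set d := Nat.gcd c.α c.N with hd_def
  set α' := c.α / d with hα'_def
  set N' := c.N / d with hN'_def
  have hα : c.α = d * α' := (Nat.mul_div_cancel' (Nat.gcd_dvd_left _ _)).symm
  have hN : c.N = d * N' := (Nat.mul_div_cancel' (Nat.gcd_dvd_right _ _)).symm
  have hcop : Nat.Coprime α' N' := Nat.coprime_div_gcd_div_gcd hd
  have hN'pos : 0 < N' := Nat.pos_of_ne_zero fun h => by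
    have := c.hN; rw [hN, h, mul_zero] at this; exact lt_irrefl _ this
  have hdiv : ∀ e : ℕ, e * c.α / c.N = e * α' / N' := fun e => by
    rw [hα, hN, mul_left_comm, Nat.mul_div_mul_left _ _ hd]
  have hdu : IsUnit (d : B) := by
    rw [hN, Nat.cast_mul] at hNu
    exact (IsUnit.mul_iff.1 hNu).1
  -- powers of `v = E N'`
  have hv : ∀ j : ℕ, c.E (N' * j) = c.E N' ^ j := by
    intro j
    induction j with
    | zero => rw [mul_zero, pow_zero, c.E_zero]
    | succ j ih =>
      rw [pow_succ, ← ih, c.E_mul_eq (N' * j) N' 0, pow_zero, one_mul, Nat.mul_succ]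
      rw [hdiv, hdiv, hdiv, add_mul, add_zero, Nat.mul_div_cancel_left _ hN'pos, mul_assoc,
        Nat.mul_div_cancel_left _ hN'pos, ← Nat.mul_add, Nat.mul_div_cancel_left _ hN'pos]
  have hvd : c.e' N' ^ d = algebraMap B c.A (c.u : B) := by
    apply Subtype.ext
    show c.E N' ^ d = algebraMap B K (c.u : B)
    rw [← hv, show N' * d = 0 + c.N by rw [hN, mul_comm, zero_add], c.E_add_N, c.E_zero, mul_one]
  -- the uniformiser
  obtain ⟨π, hπpow, hgen⟩ : ∃ π : c.A, (∃ w : c.A, IsUnit w ∧ π ^ N' = w * algebraMap B c.A c.f) ∧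
      ∀ i : Fin c.N, (∃ j, c.e' i = c.e' N' ^ j) ∨ π ∣ c.e' i := by
    rcases Nat.lt_or_ge 1 N' with h1 | h1
    · obtain ⟨a, haN, ha⟩ := Nat.exists_mul_mod_eq_one_of_coprime hcop h1
      set b := α' * a / N' with hb_def
      have hab : a * α' = 1 + b * N' := by
        have := Nat.div_add_mod (α' * a) N'
        rw [ha] at this
        rw [mul_comm a α', mul_comm b N', hb_def]
        omega
      have hba : a * c.α / c.N = b := by
        rw [hdiv]
        exact Nat.div_eq_of_lt_le (by rw [hab]; omega) (by rw [hab, add_mul]; omega)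
      have hπpow : c.e' a ^ N' = c.e' N' ^ a * algebraMap B c.A c.f := by
        apply Subtype.ext
        show c.E a ^ N' = c.E N' ^ a * algebraMap B K c.f
        have hN'α : N' * c.α / c.N = α' := by rw [hdiv, Nat.mul_div_cancel_left _ hN'pos]
        simp only [E, hba, hN'α, mul_pow, ← pow_mul]
        rw [mul_comm N' a]
        have h3 : α' * a = 1 + b * N' := by rw [mul_comm, hab]
        rw [h3, pow_add, pow_one]
        linear_combination (-(c.t ^ (a * N') * c.g ^ (b * N'))) * c.hg
      have hvu : IsUnit (c.e' N') := (isUnit_pow_iff hd.ne').1 (hvd ▸ c.u.isUnit.map _)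
      refine ⟨c.e' a, ⟨c.e' N' ^ a, hvu.pow a, hπpow⟩, fun i => ?_⟩
      by_cases hi : N' ∣ (i : ℕ)
      · obtain ⟨j, hj⟩ := hi
        exact Or.inl ⟨j, Subtype.ext (by show c.E i = c.E N' ^ j; rw [hj, hv])⟩
      · refine Or.inr ?_
        have haN' : a ≤ c.N := by
          rw [hN]; exact haN.le.trans (Nat.le_mul_of_pos_left _ hd)
        set q := (i : ℕ) * α' / N'
        set r := (i : ℕ) * α' % N' with hr_def
        have hir : (i : ℕ) * α' = N' * q + r := (Nat.div_add_mod _ _).symm
        have hr : 1 ≤ r ∧ r < N' := by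
          refine ⟨Nat.pos_of_ne_zero fun h => hi ?_, Nat.mod_lt _ hN'pos⟩
          exact hcop.symm.dvd_of_dvd_mul_right (Nat.dvd_of_mod_eq_zero h)
        have hz : ((i : ℕ) + c.N - a) * α' + (1 + b * N') = (q + d * α') * N' + r := by
          rw [← hab, ← add_mul, Nat.sub_add_cancel (haN'.trans (Nat.le_add_left _ _)), add_mul, hir,
            show c.N * α' = d * N' * α' by rw [← hN]]
          ring
        have hbq : b ≤ q + d * α' := by
          by_contra hlt
          have := Nat.mul_le_mul_right N' (Nat.le_of_lt_succ (Nat.succ_lt_succ (not_le.1 hlt)))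
          rw [Nat.succ_eq_add_one, add_mul (q + d * α') 1 N', one_mul] at this
          omega
        have h4 : ((i : ℕ) + c.N - a) * α' / N' = q + d * α' - b := by
          have e1 : (q + d * α' - b) * N' + b * N' = (q + d * α') * N' := by
            rw [← add_mul, Nat.sub_add_cancel hbq]
          exact Nat.div_eq_of_lt_le (by omega) (by rw [add_mul]; omega)
        have h5 : ((i : ℕ) + c.N) * α' / N' = q + d * α' := by
          refine Nat.div_eq_of_lt_le ?_ ?_
          · rw [add_mul, add_mul, hir, show c.N * α' = d * α' * N' by rw [hN]; ring, mul_comm q N']; omega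
          · rw [add_mul, add_mul, add_mul, hir, show c.N * α' = d * α' * N' by rw [hN]; ring, mul_comm q N']; omega
        have hE := c.E_mul_eq a ((i : ℕ) + c.N - a) 0 (by
          rw [Nat.add_sub_cancel' (haN'.trans (Nat.le_add_left _ _)), hba, hdiv, hdiv, h4, h5]
          omega)
        rw [pow_zero, one_mul, Nat.add_sub_cancel' (haN'.trans (Nat.le_add_left _ _)), c.E_add_N] at hE
        refine ((c.u.isUnit.map (algebraMap B c.A)).dvd_mul_left).1 ⟨c.e' ((i : ℕ) + c.N - a), Subtype.ext ?_⟩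
        exact hE.symm
    · refine ⟨algebraMap B c.A c.f, ⟨1, isUnit_one, by rw [show N' = 1 by omega, pow_one, one_mul]⟩,
      fun i => Or.inl ⟨i, Subtype.ext ?_⟩⟩
      show c.E i = c.E N' ^ (i : ℕ)
      rw [← hv, show N' = 1 by omega, one_mul]
  refine ⟨π, hπpow, ?_, c.e' N', d, ((isUnit_pow_iff hd.ne').1 (hvd ▸ c.u.isUnit.map _)), hdu,
    ⟨_, hvd⟩, ?_⟩
  swap
  · rintro ⟨a, ha⟩
    induction ha using Algebra.adjoin_induction with
    | mem x hx =>
      obtain ⟨i, rfl⟩ := hx
      rcases hgen i with ⟨j, hj⟩ | h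
      · refine ⟨Polynomial.X ^ j, ?_⟩
        rw [map_pow, Polynomial.aeval_X, ← hj]
        show π ∣ c.e' i - c.e' i
        rw [sub_self]; exact dvd_zero _
      · refine ⟨0, ?_⟩
        rw [map_zero, sub_zero]; exact h
    | algebraMap r =>
      refine ⟨Polynomial.C r, ?_⟩
      rw [Polynomial.aeval_C]
      show π ∣ algebraMap B c.A r - algebraMap B c.A r
      rw [sub_self]; exact dvd_zero _
    | add x y hx hy h₁ h₂ =>
      obtain ⟨P, hP⟩ := h₁
      obtain ⟨Q, hQ⟩ := h₂
      refine ⟨P + Q, ?_⟩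
      rw [map_add, show (⟨x + y, _⟩ : c.A) = ⟨x, hx⟩ + ⟨y, hy⟩ from rfl, add_sub_add_comm]
      exact dvd_add hP hQ
    | mul x y hx hy h₁ h₂ =>
      obtain ⟨P, hP⟩ := h₁
      obtain ⟨Q, hQ⟩ := h₂
      refine ⟨P * Q, ?_⟩
      rw [map_mul, show (⟨x * y, _⟩ : c.A) = ⟨x, hx⟩ * ⟨y, hy⟩ from rfl]
      exact dvd_mul_sub_mul hP hQ
  obtain ⟨w, hw, hπw⟩ := hπpow
  intro x hx
  refine Ideal.mem_of_localization_maximal fun Q hQ => ?_
  rw [Ideal.map_span, Set.image_singleton]
  by_cases hπQ : π ∈ Q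
  swap
  · rw [Ideal.span_singleton_eq_top.2 (IsLocalization.map_units (Localization.AtPrime Q) (⟨π, hπQ⟩ : Q.primeCompl))]
    trivial
  have hfP : c.f ∈ Q.under B := by
    have h : w * algebraMap B c.A c.f ∈ Q := hπw ▸ Ideal.pow_mem_of_mem Q hπQ N' hN'pos
    exact (hQ.isPrime.mem_or_mem h).resolve_left fun h' => hQ.ne_top (Ideal.eq_top_of_isUnit_mem _ h' hw)
  have hπf : π ∣ algebraMap B c.A c.f := hw.dvd_mul_left.1 (hπw ▸ dvd_pow_self π hN'pos.ne')
  haveI := quot_regular c.f hD (Q.under B) hfP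
  let L := Localization.AtPrime Q
  let I : Ideal L := Ideal.span {algebraMap c.A L π}
  haveI : Algebra.FormallyUnramified B (L ⧸ I) := by
    refine formallyUnramified_of_D_eq_zero (A := c.A) (fun y => ?_) (c.eq_zero_of_D fun i => ?_)
    · obtain ⟨y, rfl⟩ := Ideal.Quotient.mk_surjective y
      obtain ⟨⟨a, s⟩, h⟩ := IsLocalization.surj Q.primeCompl y
      exact ⟨a, s, (IsLocalization.map_units L s).map (Ideal.Quotient.mk I),
        ((map_mul (Ideal.Quotient.mk I) _ _).symm.trans (congrArg _ h))⟩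
    have hDv : KaehlerDifferential.D B (L ⧸ I) (algebraMap c.A (L ⧸ I) (c.e' N')) = 0 := by
      refine D_root_eq_zero d hd hdu _ ?_ ?_
      · exact ((isUnit_pow_iff hd.ne').1 (hvd ▸ c.u.isUnit.map (algebraMap B c.A))).map _
      · rw [← map_pow, hvd, ← IsScalarTower.algebraMap_apply, Derivation.map_algebraMap]
    rcases hgen i with ⟨j, hj⟩ | ⟨w, hw⟩
    · rw [hj, map_pow]; exact D_pow_eq_zero _ hDv j
    · rw [hw, map_mul, show algebraMap c.A (L ⧸ I) π = 0 from
        Ideal.Quotient.eq_zero_iff_mem.2 (Ideal.mem_span_singleton_self _), zero_mul, map_zero]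
  haveI := quot_regular_of_ramified Q c.f hfs hfP π hπQ hπf
  haveI : IsDomain (L ⧸ I) := RegLoc.isDomain (L ⧸ I)
  haveI : I.IsPrime := (Ideal.Quotient.isDomain_iff_prime I).1 ‹_›
  obtain ⟨n, hn⟩ := hx
  have h2 : (algebraMap c.A L x) ^ n ∈ I := by
    rw [← map_pow]
    have h3 := Ideal.mem_map_of_mem (algebraMap c.A L) hn
    rwa [Ideal.map_span, Set.image_singleton] at h3
  exact Ideal.IsPrime.mem_of_pow_mem ‹_› n h2

end Data

end Groth.Agent.RootCover
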