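import Groth.Agent.RegLoc.Normal
import Mathlib.RingTheory.Ideal.GoingDown
import Mathlib.RingTheory.Unramified.LocalRing
import Mathlib.RingTheory.KrullDimension.Regular
import Mathlib.RingTheory.Ideal.KrullsHeightTheorem
import Mathlib.RingTheory.Kaehler.Basic

/-! Regularity of a flat algebra at a point where it is (tamely) ramified along a regular divisor. -/

set_option autoImplicit false

universe u

open IsLocalRing

noncomputable section

namespace Groth.Agent.RootCover

/-- Local rings of `B ⧸ (f)` are quotients of local rings of `B`. -/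
theorem quot_regular {B : Type u} [CommRing B] [IsNoetherianRing B] (f : B)
    (hD : ∀ (P : Ideal (B ⧸ Ideal.span ({f} : Set B))) [P.IsPrime], IsRegularLocalRing (Localization.AtPrime P))
    (P : Ideal B) [P.IsPrime] (hfP : f ∈ P) :
    IsRegularLocalRing (Localization.AtPrime P ⧸ Ideal.span {algebraMap B (Localization.AtPrime P) f}) := by
  set π := Ideal.Quotient.mk (Ideal.span ({f} : Set B))
  have hπ : Function.Surjective π := Ideal.Quotient.mk_surjective
  have hk : RingHom.ker π ≤ P := by
    rw [Ideal.mk_ker, Ideal.span_le]; simpa using hfP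
  let m := P.map π
  haveI : m.IsPrime := Ideal.map_isPrime_of_surjective hπ hk
  have hc : P = m.comap π := by
    rw [Ideal.comap_map_of_surjective π hπ]
    exact (sup_eq_left.mpr hk).symm
  let φ := Localization.localRingHom P m π hc
  have hφ : Function.Surjective φ := fun z => by
    obtain ⟨a, s, rfl⟩ := IsLocalization.exists_mk'_eq m.primeCompl z
    obtain ⟨a, rfl⟩ := hπ a
    obtain ⟨t, ht⟩ := hπ s.1
    have htM : t ∈ P.primeCompl := fun h => s.2 (ht ▸ Ideal.mem_map_of_mem π h)
    refine ⟨IsLocalization.mk' _ a ⟨t, htM⟩, ?_⟩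
    rw [Localization.localRingHom_mk']
    exact congrArg _ (Subtype.ext ht)
  have hkφ : RingHom.ker φ = Ideal.span {algebraMap B (Localization.AtPrime P) f} := by
    refine le_antisymm (fun z hz => ?_) ?_
    · obtain ⟨b, s, rfl⟩ := IsLocalization.exists_mk'_eq P.primeCompl z
      rw [RingHom.mem_ker, Localization.localRingHom_mk', IsLocalization.mk'_eq_zero_iff] at hz
      obtain ⟨c, hc'⟩ := hz
      obtain ⟨t, ht⟩ := hπ c.1
      have htM : t ∈ P.primeCompl := fun h => c.2 (ht ▸ Ideal.mem_map_of_mem π h)
      have : t * b ∈ RingHom.ker π := by rw [RingHom.mem_ker, map_mul, ht]; exact hc'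
      rw [Ideal.mk_ker] at this
      refine (Ideal.mul_unit_mem_iff_mem _ (IsLocalization.map_units _ (⟨t, htM⟩ : P.primeCompl))).mp ?_
      refine (Ideal.mul_unit_mem_iff_mem _ (IsLocalization.map_units _ s)).mp ?_
      rw [mul_right_comm, IsLocalization.mk'_spec, ← map_mul, mul_comm, ← Set.image_singleton, ← Ideal.map_span]
      exact Ideal.mem_map_of_mem _ this
    · rw [Ideal.span_le, Set.singleton_subset_iff, SetLike.mem_coe, RingHom.mem_ker,
        Localization.localRingHom_to_map]
      rw [show π f = 0 from Ideal.Quotient.eq_zero_iff_mem.2 (Ideal.mem_span_singleton_self f), map_zero]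
  haveI := hD m
  exact IsRegularLocalRing.of_ringEquiv
      (((Ideal.quotEquivOfEq hkφ.symm).trans (RingHom.quotientKerEquivOfSurjective hφ)).symm)

/-- An algebra is formally unramified if all derivations kill a set of elements generating up to units. -/
theorem formallyUnramified_of_D_eq_zero {B A M : Type u} [CommRing B] [CommRing A] [CommRing M] [Algebra B M]
    [Algebra A M] (hfrac : ∀ y : M, ∃ a s : A, IsUnit (algebraMap A M s) ∧ y * algebraMap A M s = algebraMap A M a)
    (h : ∀ a : A, KaehlerDifferential.D B M (algebraMap A M a) = 0) : Algebra.FormallyUnramified B M := by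
  have hD : ∀ y : M, KaehlerDifferential.D B M y = 0 := fun y => by
    obtain ⟨a, s, hs, he⟩ := hfrac y
    have := congrArg (KaehlerDifferential.D B M) he
    rw [Derivation.leibniz, h, h, smul_zero, zero_add] at this
    exact (hs.smul_eq_zero).1 this
  refine ⟨⟨fun x y => ?_⟩⟩
  have hz : ∀ x : Ω[M⁄B], x = 0 := fun x => by
    have hx : x ∈ Submodule.span M (Set.range (KaehlerDifferential.D B M)) :=
      (KaehlerDifferential.span_range_derivation B M).symm ▸ Submodule.mem_top
    have : Submodule.span M (Set.range (KaehlerDifferential.D B M)) = ⊥ :=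
      Submodule.span_eq_bot.2 (by rintro _ ⟨m, rfl⟩; exact hD m)
    rwa [this, Submodule.mem_bot] at hx
  rw [hz x, hz y]

section
variable {B A : Type u} [CommRing B] [CommRing A] [Algebra B A] [IsNoetherianRing B] [IsNoetherianRing A] [Module.Flat B A]

theorem dim_le (Q : Ideal A) [Q.IsPrime] :
    ringKrullDim (Localization.AtPrime (Q.under B)) ≤ ringKrullDim (Localization.AtPrime Q) := by
  rw [IsLocalization.AtPrime.ringKrullDim_eq_height (Q.under B), IsLocalization.AtPrime.ringKrullDim_eq_height Q,
    Ideal.height_eq_height_add_of_liesOver_of_hasGoingDown (Q.under B) Q]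
  exact WithBot.coe_le_coe.2 le_self_add

variable [Algebra.FiniteType B A]

/-- Unramified points over regular points are regular. -/
theorem regular_of_unramified (Q : Ideal A) [Q.IsPrime] [IsRegularLocalRing (Localization.AtPrime (Q.under B))]
    [Algebra.FormallyUnramified B (Localization.AtPrime Q)] : IsRegularLocalRing (Localization.AtPrime Q) := by
  letI := Localization.AtPrime.algebraOfLiesOver (Q.under B) Q
  haveI : IsScalarTower B (Localization.AtPrime (Q.under B)) (Localization.AtPrime Q) :=
    IsScalarTower.of_algebraMap_eq fun x => by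
      rw [RingHom.algebraMap_toAlgebra, Localization.localRingHom_to_map,
        ← IsScalarTower.algebraMap_apply B A (Localization.AtPrime Q)]
  haveI : IsLocalHom (algebraMap (Localization.AtPrime (Q.under B)) (Localization.AtPrime Q)) := by
    rw [RingHom.algebraMap_toAlgebra]
    exact Localization.isLocalHom_localRingHom (Q.under B) Q (algebraMap B A) Ideal.LiesOver.over
  haveI : Algebra.EssFiniteType A (Localization.AtPrime Q) := Algebra.EssFiniteType.of_isLocalization _ Q.primeCompl
  haveI : Algebra.EssFiniteType B (Localization.AtPrime Q) := Algebra.EssFiniteType.comp B A _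
  haveI : Algebra.EssFiniteType (Localization.AtPrime (Q.under B)) (Localization.AtPrime Q) :=
    Algebra.EssFiniteType.of_comp B _ _
  haveI : Algebra.FormallyUnramified (Localization.AtPrime (Q.under B)) (Localization.AtPrime Q) :=
    Algebra.FormallyUnramified.of_restrictScalars B _ _
  refine IsRegularLocalRing.of_spanFinrank_maximalIdeal_le _ ?_
  rw [← Algebra.FormallyUnramified.map_maximalIdeal (R := Localization.AtPrime (Q.under B))]
  refine le_trans (WithBot.coe_le_coe.2 (Nat.cast_le.2 (Ideal.spanFinrank_map_le_of_fg _ (IsNoetherian.noetherian _)))) ?_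
  exact le_of_eq_of_le IsRegularLocalRing.spanFinrank_maximalIdeal (dim_le Q)

/-- Points over a regular divisor `f`, unramified modulo a `π` dividing `f`, are regular. -/
theorem regular_of_ramified (Q : Ideal A) [Q.IsPrime] (f : B) (hf : IsSMulRegular B f) (hfQ : f ∈ Q.under B)
    [IsRegularLocalRing (Localization.AtPrime (Q.under B) ⧸
      Ideal.span {algebraMap B (Localization.AtPrime (Q.under B)) f})]
    (π : A) (hπ : π ∈ Q) (hdiv : π ∣ algebraMap B A f)
    [Algebra.FormallyUnramified B (Localization.AtPrime Q ⧸ Ideal.span {algebraMap A (Localization.AtPrime Q) π})] :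
    IsRegularLocalRing (Localization.AtPrime Q) := by
  letI := Localization.AtPrime.algebraOfLiesOver (Q.under B) Q
  let Lb := Localization.AtPrime (Q.under B)
  let L := Localization.AtPrime Q
  haveI : IsScalarTower B Lb L := IsScalarTower.of_algebraMap_eq fun x => by
    rw [RingHom.algebraMap_toAlgebra, Localization.localRingHom_to_map, ← IsScalarTower.algebraMap_apply B A L]
  haveI : IsLocalHom (algebraMap Lb L) := by
    rw [RingHom.algebraMap_toAlgebra]
    exact Localization.isLocalHom_localRingHom (Q.under B) Q (algebraMap B A) Ideal.LiesOver.over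
  set π' := algebraMap A L π
  set I : Ideal L := Ideal.span {π'}
  have hI : I ≤ maximalIdeal L := by
    rw [Ideal.span_le, Set.singleton_subset_iff, ← Localization.AtPrime.map_eq_maximalIdeal]
    exact Ideal.mem_map_of_mem _ hπ
  have hIne : I ≠ ⊤ := fun h => (maximalIdeal.isMaximal L).ne_top (top_le_iff.1 (h ▸ hI))
  haveI : Nontrivial (L ⧸ I) := Ideal.Quotient.nontrivial_iff.2 hIne
  haveI : IsLocalRing (L ⧸ I) := IsLocalRing.of_surjective' _ Ideal.Quotient.mk_surjective
  haveI : IsLocalHom (Ideal.Quotient.mk I) := IsLocalHom.of_surjective _ Ideal.Quotient.mk_surjective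
  haveI : IsLocalHom (algebraMap Lb (L ⧸ I)) := by
    rw [IsScalarTower.algebraMap_eq Lb L (L ⧸ I)]
    exact RingHom.isLocalHom_comp _ _
  haveI : Algebra.EssFiniteType A L := Algebra.EssFiniteType.of_isLocalization _ Q.primeCompl
  haveI : Algebra.EssFiniteType B L := Algebra.EssFiniteType.comp B A _
  haveI : Algebra.EssFiniteType B (L ⧸ I) := Algebra.EssFiniteType.comp B L _
  haveI : Algebra.EssFiniteType Lb (L ⧸ I) := Algebra.EssFiniteType.of_comp B _ _
  haveI : Algebra.FormallyUnramified Lb (L ⧸ I) := Algebra.FormallyUnramified.of_restrictScalars B _ _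
  have hmax : maximalIdeal L = (maximalIdeal Lb).map (algebraMap Lb L) ⊔ I := by
    have h := Algebra.FormallyUnramified.map_maximalIdeal (R := Lb) (S := L ⧸ I)
    rw [IsScalarTower.algebraMap_eq Lb L (L ⧸ I), ← Ideal.map_map] at h
    have h2 := congrArg (Ideal.comap (Ideal.Quotient.mk I)) h
    rw [Ideal.Quotient.algebraMap_eq, Ideal.comap_map_of_surjective _ Ideal.Quotient.mk_surjective] at h2
    rw [((local_hom_TFAE (Ideal.Quotient.mk I)).out 0 4 rfl rfl).1 inferInstance] at h2
    rw [← h2]
    congr 1
    exact Ideal.mk_ker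
  set f' := algebraMap B Lb f
  have hf' : f' ∈ maximalIdeal Lb := by
    rw [← Localization.AtPrime.map_eq_maximalIdeal]
    exact Ideal.mem_map_of_mem _ hfQ
  have hJne : Ideal.span {f'} ≠ ⊤ := fun h => (maximalIdeal.isMaximal Lb).ne_top
    (top_le_iff.1 (h ▸ (Ideal.span_le.2 (Set.singleton_subset_iff.2 hf'))))
  haveI : Nontrivial (Lb ⧸ Ideal.span {f'}) := Ideal.Quotient.nontrivial_iff.2 hJne
  have hreg' : IsSMulRegular Lb f' := IsSMulRegular.of_flat hf
  have hdim : ringKrullDim (Lb ⧸ Ideal.span {f'}) + 1 = ringKrullDim Lb :=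
    ringKrullDim_quotient_span_singleton_succ_eq_ringKrullDim_of_mem_jacobson hreg'
      (by rw [IsLocalRing.ringJacobson_eq_maximalIdeal]; exact hf')
  let s := (maximalIdeal (Lb ⧸ Ideal.span {f'}))
  obtain ⟨G, hGc, hGspan⟩ := Submodule.FG.exists_span_finset_card_eq_spanFinrank (IsNoetherian.noetherian s)
  classical
  choose lift hlift using fun x : Lb ⧸ Ideal.span {f'} => Ideal.Quotient.mk_surjective (I := Ideal.span {f'}) x
  have hsup : maximalIdeal Lb ≤ Ideal.span {f'} ⊔ Ideal.span (G.image lift : Set Lb) := by
    intro x hx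
    have h1 : Ideal.Quotient.mk (Ideal.span {f'}) x ∈ Ideal.map (Ideal.Quotient.mk (Ideal.span {f'}))
        (Ideal.span (G.image lift : Set Lb)) := by
      rw [Ideal.map_span, Finset.coe_image, Set.image_image]
      simp only [hlift, Set.image_id']
      show _ ∈ Submodule.span (Lb ⧸ Ideal.span {f'}) (G : Set (Lb ⧸ Ideal.span {f'}))
      rw [hGspan, mem_maximalIdeal]
      intro hu
      obtain ⟨y, hy⟩ := hu.exists_right_inv
      obtain ⟨y, rfl⟩ := Ideal.Quotient.mk_surjective y
      rw [← map_mul, ← map_one (Ideal.Quotient.mk (Ideal.span {f'})), Ideal.Quotient.eq] at hy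
      have := Ideal.sub_mem _ (Ideal.mul_mem_right y _ hx) ((Ideal.span_le.2 (Set.singleton_subset_iff.2 hf')) hy)
      rw [sub_sub_cancel] at this
      exact (maximalIdeal.isMaximal Lb).ne_top (Ideal.eq_top_of_isUnit_mem _ this isUnit_one)
    have h2 := Ideal.mem_comap.2 h1
    rw [Ideal.comap_map_of_surjective _ Ideal.Quotient.mk_surjective, sup_comm] at h2
    have : Ideal.comap (Ideal.Quotient.mk (Ideal.span {f'})) ⊥ = Ideal.span {f'} := Ideal.mk_ker
    rwa [this] at h2
  have hle : maximalIdeal L ≤ Ideal.span (insert π' ((G.image lift).image (algebraMap Lb L) : Finset L) : Set L) := by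
    rw [hmax, sup_le_iff]
    refine ⟨(Ideal.map_mono hsup).trans ?_, ?_⟩
    · rw [Ideal.map_sup, Ideal.map_span, Ideal.map_span, sup_le_iff]
      refine ⟨?_, Ideal.span_mono (by rw [← Finset.coe_image]; exact Set.subset_insert _ _)⟩
      rw [Set.image_singleton, Ideal.span_le, Set.singleton_subset_iff]
      obtain ⟨c, hc⟩ := hdiv
      have : algebraMap Lb L f' = π' * algebraMap A L c := by
        rw [← IsScalarTower.algebraMap_apply B Lb L, IsScalarTower.algebraMap_apply B A L, hc, map_mul]
      rw [this]
      exact Ideal.mul_mem_right _ _ (Ideal.subset_span (Set.mem_insert _ _))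
    · exact Ideal.span_mono (Set.singleton_subset_iff.2 (Set.mem_insert _ _))
  have hge : Ideal.span (insert π' ((G.image lift).image (algebraMap Lb L) : Finset L) : Set L) ≤ maximalIdeal L := by
    rw [Ideal.span_le, Set.insert_subset_iff]
    refine ⟨hI (Ideal.mem_span_singleton_self _), ?_⟩
    intro y hy
    simp only [Finset.coe_image, Set.mem_image] at hy
    obtain ⟨_, ⟨g, hg, rfl⟩, rfl⟩ := hy
    rw [SetLike.mem_coe, mem_maximalIdeal]
    intro hu
    have h3 : g ∈ maximalIdeal (Lb ⧸ Ideal.span {f'}) := (le_of_eq hGspan) (Submodule.subset_span hg)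
    rw [mem_maximalIdeal] at h3
    exact h3 (hlift g ▸ (isUnit_of_map_unit (algebraMap Lb L) _ hu).map _)
  refine IsRegularLocalRing.of_spanFinrank_maximalIdeal_le _ ?_
  rw [le_antisymm hle hge]
  refine le_trans (WithBot.coe_le_coe.2 (Nat.cast_le.2
    (Submodule.spanFinrank_span_le_ncard_of_finite ((Finset.finite_toSet _).insert _)))) ?_
  have hcard : (insert π' ((G.image lift).image (algebraMap Lb L) : Finset L) : Set L).ncard ≤ G.card + 1 := by
    refine (Set.ncard_insert_le _ _).trans (Nat.add_le_add_right ?_ 1)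
    rw [Set.ncard_coe_finset]
    exact Finset.card_image_le.trans Finset.card_image_le
  refine le_trans (WithBot.coe_le_coe.2 (Nat.cast_le.2 hcard)) ?_
  refine le_trans (le_of_eq ?_) (hdim.trans_le (dim_le Q))
  rw [hGc, ← IsRegularLocalRing.spanFinrank_maximalIdeal]
  push_cast
  rfl

end

end Groth.Agent.RootCover
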