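import Groth.Agent.RootCover.Reg

/-! The divisor of the uniformiser of a root cover is regular. -/

set_option autoImplicit false
set_option maxHeartbeats 1000000

universe u

open IsLocalRing

noncomputable section

namespace Groth.Agent.RootCover

section
variable {B A : Type u} [CommRing B] [CommRing A] [Algebra B A] [IsNoetherianRing B] [IsNoetherianRing A] [Module.Flat B A]
variable [Algebra.FiniteType B A]

/-- The divisor of `π` is regular at points over a regular divisor `f`, unramified modulo `π`. -/
theorem quot_regular_of_ramified (Q : Ideal A) [Q.IsPrime] (f : B) (hf : IsSMulRegular B f) (hfQ : f ∈ Q.under B)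
    [IsRegularLocalRing (Localization.AtPrime (Q.under B) ⧸
      Ideal.span {algebraMap B (Localization.AtPrime (Q.under B)) f})]
    (π : A) (hπ : π ∈ Q) (hdiv : π ∣ algebraMap B A f)
    [Algebra.FormallyUnramified B (Localization.AtPrime Q ⧸ Ideal.span {algebraMap A (Localization.AtPrime Q) π})] :
    IsRegularLocalRing (Localization.AtPrime Q ⧸ Ideal.span {algebraMap A (Localization.AtPrime Q) π}) := by
  haveI hLreg : IsRegularLocalRing (Localization.AtPrime Q) := regular_of_ramified Q f hf hfQ π hπ hdiv
  letI := Localization.AtPrime.algebraOfLiesOver (Q.under B) Q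
  let Lb := Localization.AtPrime (Q.under B)
  let L := Localization.AtPrime Q
  haveI : IsScalarTower B Lb L := IsScalarTower.of_algebraMap_eq fun x => by
    rw [RingHom.algebraMap_toAlgebra, Localization.localRingHom_to_map, ← IsScalarTower.algebraMap_apply B A L]
  haveI : IsLocalHom (algebraMap Lb L) := by
    rw [RingHom.algebraMap_toAlgebra]
    exact Localization.isLocalHom_localRingHom (Q.under B) Q (algebraMap B A) Ideal.LiesOver.over
  set π' := algebraMap A L π
  set I : Ideal L := Ideal.span {π'}
  have hI : I ≤ maximalIdeal L := by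
    rw [Ideal.span_le, Set.singleton_subset_iff, ← Localization.AtPrime.map_eq_maximalIdeal]
    exact Ideal.mem_map_of_mem _ hπ
  have hIne : I ≠ ⊤ := fun h => (maximalIdeal.isMaximal L).ne_top (top_le_iff.1 (h ▸ hI))
  haveI : Nontrivial (L ⧸ I) := Ideal.Quotient.nontrivial_iff.2 hIne
  haveI : IsLocalRing (L ⧸ I) := IsLocalRing.of_surjective' _ Ideal.Quotient.mk_surjective
  haveI : IsLocalHom (Ideal.Quotient.mk I) := IsLocalHom.of_surjective _ Ideal.Quotient.mk_surjective
  haveI : IsLocalHom (algebraMap Lb (L ⧸ I)) := by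
    rw [IsScalarTower.algebraMap_eq Lb L (L ⧸ I)]
    exact RingHom.isLocalHom_comp _ _
  haveI : Algebra.EssFiniteType A L := Algebra.EssFiniteType.of_isLocalization _ Q.primeCompl
  haveI : Algebra.EssFiniteType B L := Algebra.EssFiniteType.comp B A _
  haveI : Algebra.EssFiniteType B (L ⧸ I) := Algebra.EssFiniteType.comp B L _
  haveI : Algebra.EssFiniteType Lb (L ⧸ I) := Algebra.EssFiniteType.of_comp B _ _
  haveI : Algebra.FormallyUnramified Lb (L ⧸ I) := Algebra.FormallyUnramified.of_restrictScalars B _ _
  have hmax : maximalIdeal L = (maximalIdeal Lb).map (algebraMap Lb L) ⊔ I := by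
    have h := Algebra.FormallyUnramified.map_maximalIdeal (R := Lb) (S := L ⧸ I)
    rw [IsScalarTower.algebraMap_eq Lb L (L ⧸ I), ← Ideal.map_map] at h
    have h2 := congrArg (Ideal.comap (Ideal.Quotient.mk I)) h
    rw [Ideal.Quotient.algebraMap_eq, Ideal.comap_map_of_surjective _ Ideal.Quotient.mk_surjective] at h2
    rw [((local_hom_TFAE (Ideal.Quotient.mk I)).out 0 4 rfl rfl).1 inferInstance] at h2
    rw [← h2]
    congr 1
    exact Ideal.mk_ker
  set f' := algebraMap B Lb f
  have hf' : f' ∈ maximalIdeal Lb := by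
    rw [← Localization.AtPrime.map_eq_maximalIdeal]
    exact Ideal.mem_map_of_mem _ hfQ
  have hJne : Ideal.span {f'} ≠ ⊤ := fun h => (maximalIdeal.isMaximal Lb).ne_top
    (top_le_iff.1 (h ▸ (Ideal.span_le.2 (Set.singleton_subset_iff.2 hf'))))
  haveI : Nontrivial (Lb ⧸ Ideal.span {f'}) := Ideal.Quotient.nontrivial_iff.2 hJne
  have hreg' : IsSMulRegular Lb f' := IsSMulRegular.of_flat hf
  have hdim : ringKrullDim (Lb ⧸ Ideal.span {f'}) + 1 = ringKrullDim Lb :=
    ringKrullDim_quotient_span_singleton_succ_eq_ringKrullDim_of_mem_jacobson hreg'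
      (by rw [IsLocalRing.ringJacobson_eq_maximalIdeal]; exact hf')
  let s := (maximalIdeal (Lb ⧸ Ideal.span {f'}))
  obtain ⟨G, hGc, hGspan⟩ := Submodule.FG.exists_span_finset_card_eq_spanFinrank (IsNoetherian.noetherian s)
  classical
  choose lift hlift using fun x : Lb ⧸ Ideal.span {f'} => Ideal.Quotient.mk_surjective (I := Ideal.span {f'}) x
  have hsup : maximalIdeal Lb ≤ Ideal.span {f'} ⊔ Ideal.span (G.image lift : Set Lb) := by
    intro x hx
    have h1 : Ideal.Quotient.mk (Ideal.span {f'}) x ∈ Ideal.map (Ideal.Quotient.mk (Ideal.span {f'}))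
        (Ideal.span (G.image lift : Set Lb)) := by
      rw [Ideal.map_span, Finset.coe_image, Set.image_image]
      simp only [hlift, Set.image_id']
      show _ ∈ Submodule.span (Lb ⧸ Ideal.span {f'}) (G : Set (Lb ⧸ Ideal.span {f'}))
      rw [hGspan, mem_maximalIdeal]
      intro hu
      obtain ⟨y, hy⟩ := hu.exists_right_inv
      obtain ⟨y, rfl⟩ := Ideal.Quotient.mk_surjective y
      rw [← map_mul, ← map_one (Ideal.Quotient.mk (Ideal.span {f'})), Ideal.Quotient.eq] at hy
      have := Ideal.sub_mem _ (Ideal.mul_mem_right y _ hx) ((Ideal.span_le.2 (Set.singleton_subset_iff.2 hf')) hy)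
      rw [sub_sub_cancel] at this
      exact (maximalIdeal.isMaximal Lb).ne_top (Ideal.eq_top_of_isUnit_mem _ this isUnit_one)
    have h2 := Ideal.mem_comap.2 h1
    rw [Ideal.comap_map_of_surjective _ Ideal.Quotient.mk_surjective, sup_comm] at h2
    have : Ideal.comap (Ideal.Quotient.mk (Ideal.span {f'})) ⊥ = Ideal.span {f'} := Ideal.mk_ker
    rwa [this] at h2
  have hle : maximalIdeal L ≤ Ideal.span (insert π' ((G.image lift).image (algebraMap Lb L) : Finset L) : Set L) := by
    rw [hmax, sup_le_iff]
    refine ⟨(Ideal.map_mono hsup).trans ?_, ?_⟩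
    · rw [Ideal.map_sup, Ideal.map_span, Ideal.map_span, sup_le_iff]
      refine ⟨?_, Ideal.span_mono (by rw [← Finset.coe_image]; exact Set.subset_insert _ _)⟩
      rw [Set.image_singleton, Ideal.span_le, Set.singleton_subset_iff]
      obtain ⟨c, hc⟩ := hdiv
      have : algebraMap Lb L f' = π' * algebraMap A L c := by
        rw [← IsScalarTower.algebraMap_apply B Lb L, IsScalarTower.algebraMap_apply B A L, hc, map_mul]
      rw [this]
      exact Ideal.mul_mem_right _ _ (Ideal.subset_span (Set.mem_insert _ _))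
    · exact Ideal.span_mono (Set.singleton_subset_iff.2 (Set.mem_insert _ _))
  have hge : Ideal.span (insert π' ((G.image lift).image (algebraMap Lb L) : Finset L) : Set L) ≤ maximalIdeal L := by
    rw [Ideal.span_le, Set.insert_subset_iff]
    refine ⟨hI (Ideal.mem_span_singleton_self _), ?_⟩
    intro y hy
    simp only [Finset.coe_image, Set.mem_image] at hy
    obtain ⟨_, ⟨g, hg, rfl⟩, rfl⟩ := hy
    rw [SetLike.mem_coe, mem_maximalIdeal]
    intro hu
    have h3 : g ∈ maximalIdeal (Lb ⧸ Ideal.span {f'}) := (le_of_eq hGspan) (Submodule.subset_span hg)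
    rw [mem_maximalIdeal] at h3
    exact h3 (hlift g ▸ (isUnit_of_map_unit (algebraMap Lb L) _ hu).map _)
  haveI : IsDomain L := RegLoc.isDomain L
  haveI : IsNoetherianRing (L ⧸ I) := inferInstance
  have hπ0 : π' ≠ 0 := by
    intro h0
    obtain ⟨c, hc⟩ := hdiv
    have h1 : algebraMap B L f = 0 := by
      rw [IsScalarTower.algebraMap_apply B A L, hc, map_mul, show algebraMap A L π = 0 from h0, zero_mul]
    have h2 : IsSMulRegular L (algebraMap B L f) := IsSMulRegular.of_flat hf
    exact zero_ne_one (h2 (show algebraMap B L f • (0 : L) = algebraMap B L f • 1 by simp [h1]))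
  have hdimL : ringKrullDim (L ⧸ I) + 1 = ringKrullDim L :=
    ringKrullDim_quotient_span_singleton_succ_eq_ringKrullDim_of_mem_jacobson (IsSMulRegular.of_ne_zero hπ0)
      (by rw [IsLocalRing.ringJacobson_eq_maximalIdeal]; exact hI (Ideal.mem_span_singleton_self _))
  refine IsRegularLocalRing.of_spanFinrank_maximalIdeal_le _ ?_
  have hmq : maximalIdeal (L ⧸ I) ≤
      Ideal.span ((((G.image lift).image (algebraMap Lb L)).image (Ideal.Quotient.mk I) : Finset (L ⧸ I)) : Set (L ⧸ I)) := by
    intro z hz
    obtain ⟨z, rfl⟩ := Ideal.Quotient.mk_surjective z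
    have hz' : z ∈ maximalIdeal L := by
      rw [mem_maximalIdeal] at hz ⊢
      exact fun hu => hz (hu.map _)
    have h3 := Ideal.mem_map_of_mem (Ideal.Quotient.mk I) (hle hz')
    rw [Ideal.map_span, Set.image_insert_eq,
      show Ideal.Quotient.mk I π' = 0 from Ideal.Quotient.eq_zero_iff_mem.2 (Ideal.mem_span_singleton_self _),
      Ideal.span_insert_zero, ← Finset.coe_image] at h3
    exact h3
  have hmq' : Ideal.span ((((G.image lift).image (algebraMap Lb L)).image (Ideal.Quotient.mk I) : Finset (L ⧸ I)) : Set (L ⧸ I)) ≤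
      maximalIdeal (L ⧸ I) := by
    refine IsLocalRing.le_maximalIdeal fun htop => (maximalIdeal.isMaximal L).ne_top ?_
    rw [Finset.coe_image, ← Ideal.map_span] at htop
    have h4 := congrArg (Ideal.comap (Ideal.Quotient.mk I)) htop
    rw [Ideal.comap_top, Ideal.comap_map_of_surjective _ Ideal.Quotient.mk_surjective] at h4
    rw [eq_top_iff, ← h4, sup_le_iff]
    exact ⟨(Ideal.span_mono (Set.subset_insert _ _)).trans hge, fun z hz => hI (Ideal.Quotient.eq_zero_iff_mem.1 hz)⟩
  rw [le_antisymm hmq hmq']
  refine le_trans (WithBot.coe_le_coe.2 (Nat.cast_le.2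
    ((Submodule.spanFinrank_span_le_ncard_of_finite (Finset.finite_toSet _)).trans ((Set.ncard_coe_finset _).trans_le
      (Finset.card_image_le.trans (Finset.card_image_le.trans Finset.card_image_le)))))) ?_
  rw [hGc]
  refine le_trans (le_of_eq IsRegularLocalRing.spanFinrank_maximalIdeal) ?_
  have h5 : ringKrullDim (Lb ⧸ Ideal.span {f'}) + 1 ≤ ringKrullDim (L ⧸ I) + 1 :=
    hdim.trans_le ((dim_le Q).trans hdimL.ge)
  revert h5
  generalize ringKrullDim (Lb ⧸ Ideal.span {f'}) = a
  generalize ringKrullDim (L ⧸ I) = b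
  intro h5
  induction a using WithBot.recBotCoe with
  | bot => exact bot_le
  | coe a =>
    induction b using WithBot.recBotCoe with
    | bot =>
      rw [WithBot.bot_add, le_bot_iff] at h5
      exact absurd h5 (by rw [← WithBot.coe_one, ← WithBot.coe_add]; exact WithBot.coe_ne_bot)
    | coe b =>
      rw [← WithBot.coe_one, ← WithBot.coe_add, ← WithBot.coe_add, WithBot.coe_le_coe] at h5
      exact WithBot.coe_le_coe.2 ((ENat.add_le_add_iff_right ENat.one_ne_top).1 h5)

end

end Groth.Agent.RootCover
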